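import Groth.Agent.Surf.K580.FibY
import Groth.Agent.Dual3.K477.NormalGeo

/-!
# The genus formula for a closed fibre of a semistable fibration
-/

set_option autoImplicit false
universe u
open CategoryTheory CategoryTheory.Limits AlgebraicGeometry TopologicalSpace

namespace K580.FibMain

open Groth.Agent K379.Fib K464.Base K464.Curves K464.PtCurve K464.FibCurve K627.SurfFin K580.FibY K316.NormRed

variable (k : Type u) [Field k] [IsAlgClosed k] {X C : Scheme.{u}} [X.Over (Spec (CommRingCat.of k))]
    [C.Over (Spec (CommRingCat.of k))] (f : X ⟶ C) (g : ℕ)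

theorem smooth_of_normal {T : Scheme.{u}} (q : T ⟶ Spec (CommRingCat.of k)) [LocallyOfFiniteType q]
    (hT : Pi1.IsNormalScheme T) (hd : topologicalKrullDim T ≤ 1) : Smooth q := by
  have : IsLocallyNoetherian T := LocallyOfFiniteType.isLocallyNoetherian q
  have : LocallyOfFinitePresentation q := LocallyOfFinitePresentation.iff_locallyOfFiniteType.2 inferInstance
  rw [← Scheme.Hom.smoothLocus_eq_top_iff]
  ext x
  constructor
  · intro _; trivial
  · intro _
    exact K477.NormalGeo.mem_smoothLocus_of_dim_le_one q hT x ((CurvesB.DimPts.ringKrullDim_stalk_le x).trans hd)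

/-- The genus formula for the closed fibres of a semistable fibration. -/
theorem fibre [LocallyOfFinitePresentation f] (h : K379.Fib.IsFib k f g) (s : C) (hs : IsClosed ({s} : Set C)) :
    ∃ (ι : Type) (_ : Fintype ι) (N : ι → Scheme.{u}) (n : ∀ i, N i ⟶ X),
      (∀ i, Curve.IsSmoothProperCurve k (N i) (n i ≫ (X ↘ Spec (CommRingCat.of k)))) ∧
      (∀ x : X, f x = s ↔ ∃ i, x ∈ Set.range (n i)) ∧
      g + (K379.Fib.vc f s).ncard = (∑ i, @Curv2.genus k _ (N i) ⟨n i ≫ (X ↘ Spec (CommRingCat.of k))⟩) +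
        (K379.Fib.sg f s).ncard + 1 := by
  classical
  let _ := overC k X (YI f hs)
  let Y := (YI f hs).subscheme
  have hpY : IsProper (Y ↘ Spec (CommRingCat.of k)) := FibY.proper k h hs
  obtain ⟨hn, hd⟩ := nodal k h hs
  have hcY : ConnectedSpace Y := connected k h hs
  have hrY : AlgebraicGeometry.IsReduced Y := K903.Facts.isReduced k Y hn
  have hNY : IsNoetherian Y := CurvesB.CurveRR.isNoetherian_of_proper k Y
  obtain ⟨N, G, hfin, hsurj, hint, hnorm, hdim, -, hnu, hnormal, U, hU, hU', hiso⟩ :=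
    exists_normalization k (Y ↘ Spec (CommRingCat.of k))
  have hJ : Finite (irreducibleComponents (Y : Type u)) := NoetherianSpace.finite_irreducibleComponents
  obtain ⟨m, ⟨e⟩⟩ := Finite.exists_equiv_fin (irreducibleComponents (Y : Type u))
  let a : Fin m → irreducibleComponents (Y : Type u) := e.symm
  let n : ∀ i : Fin m, N (a i) ⟶ X := fun i => mp N G (a i) ≫ (YI f hs).subschemeι
  have hover : ∀ i, n i ≫ (X ↘ Spec (CommRingCat.of k)) = mp N G (a i) ≫ (Y ↘ Spec (CommRingCat.of k)) := fun i =>
    Category.assoc _ _ _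
  have hmp : ∀ i, IsFinite (mp N G (a i)) := fun i => inferInstance
  have hprop : ∀ i, IsProper (mp N G (a i) ≫ (Y ↘ Spec (CommRingCat.of k))) := fun i => inferInstance
  refine ⟨Fin m, inferInstance, fun i => N (a i), n, fun i => ?_, fun x => ?_, ?_⟩
  · rw [hover]
    have hd1 : topologicalKrullDim (N (a i)) = 1 := by rw [hdim, hd _ (a i).2]
    exact ⟨hprop i, smooth_of_normal k _ (hnorm (a i)) hd1.le, hint (a i), hd1⟩
  · have h1 : f x = s ↔ x ∈ Set.range (YI f hs).subschemeι := by
      rw [range_ι hs]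
      rfl
    rw [h1]
    constructor
    · rintro ⟨y, rfl⟩
      let Z : irreducibleComponents (Y : Type u) :=
        ⟨irreducibleComponent y, irreducibleComponent_mem_irreducibleComponents y⟩
      have h2 : y ∈ Set.range (mp N G (a (e Z))) := by
        rw [range_mp]
        have h3 : a (e Z) = Z := e.symm_apply_apply Z
        rw [h3]
        exact mem_irreducibleComponent
      obtain ⟨z, hz⟩ := h2
      exact ⟨e Z, z, by rw [← hz]; rfl⟩
    · rintro ⟨i, z, rfl⟩
      exact ⟨mp N G (a i) z, rfl⟩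
  · let _ : (∐ N : Scheme.{u}).Over (Spec (CommRingCat.of k)) := ⟨nu N G ≫ (Y ↘ Spec (CommRingCat.of k))⟩
    have h1 := K316.GenusNode.genus_formula k Y hd hn (∐ N) (nu N G) hnormal U hU hU' hiso
    have hpN : IsProper ((∐ N : Scheme.{u}) ↘ Spec (CommRingCat.of k)) :=
      inferInstanceAs (IsProper (nu N G ≫ (Y ↘ Spec (CommRingCat.of k))))
    have h2 : Nat.card (_root_.ConnectedComponents ↥(∐ N : Scheme.{u})) = (vc f s).ncard := by
      rw [GenusSum.card_connectedComponents N fun j => inferInstance]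
      exact card_vc k h hs
    have h3 : Curv2.genus k Y = g := FibY.genus_eq k h hs
    have h4 : Nat.card {y : Y // Curv2.IsNode k Y y} = (sg f s).ncard := card_nodes k h hs
    have hainj : Function.Injective a := e.symm.injective
    have h5 := GenusSum.genus_eq_sum k (X := (∐ N : Scheme.{u})) (fun i : Fin m => N (a i))
      (fun i => Sigma.ι N (a i)) (fun i j hij => GenusSum.disjoint_range N (hainj.ne hij)) (fun x => by
        obtain ⟨j, y, rfl⟩ := (sigmaOpenCover N).exists_eq x
        refine ⟨e j, ?_⟩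
        have h6 : a (e j) = j := e.symm_apply_apply j
        rw [h6]
        exact ⟨y, rfl⟩)
    have h6 : ∀ i : Fin m, @Curv2.genus k _ (N (a i)) ⟨Sigma.ι N (a i) ≫ ((∐ N : Scheme.{u}) ↘ Spec (CommRingCat.of k))⟩ =
        @Curv2.genus k _ (N (a i)) ⟨n i ≫ (X ↘ Spec (CommRingCat.of k))⟩ := by
      intro i
      have h7 : Sigma.ι N (a i) ≫ ((∐ N : Scheme.{u}) ↘ Spec (CommRingCat.of k)) =
          n i ≫ (X ↘ Spec (CommRingCat.of k)) := by
        rw [hover]
        change Sigma.ι N (a i) ≫ nu N G ≫ (Y ↘ Spec (CommRingCat.of k)) = _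
        rw [← Category.assoc, Sigma.ι_desc]
      rw [h7]
    rw [h2, h3, h4, h5] at h1
    rw [Finset.sum_congr rfl fun i _ => (h6 i).symm]
    exact_mod_cast h1

end K580.FibMain
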