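import Groth.Agent.CurvesC.DegIso
import Groth.Agent.VBPn.K700.HDim
import Groth.Agent.Fga.TwistGr
import Groth.Agent.CurvesC.PullIso
import Groth.Agent.S0002
import Groth.Agent.CurvesB.UnitCoh
import Groth.Prelude.Def_ClSub2

/-!
# The genus and the connected components of a finite disjoint union
-/

set_option autoImplicit false
universe u
open CategoryTheory CategoryTheory.Limits AlgebraicGeometry TopologicalSpace

namespace K580.GenusSum

section General

variable {X : Scheme.{u}} {ι : Type} [Finite ι]

/-- Sections of a finite direct sum are determined by their components. -/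
theorem eq_of_components (M : ι → X.Modules) {W : X.Opens} (a b : Γ(⨁ M, W))
    (h : ∀ i, (biproduct.π M i).app W a = (biproduct.π M i).app W b) : a = b := by
  classical
  have := Fintype.ofFinite ι
  have key : ∀ c : Γ(⨁ M, W), c = ∑ i, (biproduct.ι M i).app W ((biproduct.π M i).app W c) := by
    intro c
    have h1 : (𝟙 (⨁ M) : ⨁ M ⟶ ⨁ M).app W c = c := rfl
    rw [← biproduct.total] at h1
    have h2 : ∀ (s : Finset ι), (∑ i ∈ s, biproduct.π M i ≫ biproduct.ι M i).app W c =
        ∑ i ∈ s, (biproduct.ι M i).app W ((biproduct.π M i).app W c) := by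
      intro s
      induction s using Finset.induction_on with
      | empty => rfl
      | insert i s his ih =>
        rw [Finset.sum_insert his, Finset.sum_insert his, ← ih]
        rfl
    rw [h2] at h1
    exact h1.symm
  rw [key a, key b]
  exact Finset.sum_congr rfl fun i _ => by rw [h i]

variable (N : ι → Scheme.{u}) (e : ∀ i, N i ⟶ X) [∀ i, IsOpenImmersion (e i)]

/-- The map from the structure sheaf to the sum of the structure sheaves of the pieces. -/
noncomputable def lift : Coh.structureModule X ⟶
    ⨁ fun i => (Scheme.Modules.pushforward (e i)).obj (Coh.structureModule (N i)) :=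
  biproduct.lift fun i => ClSub.unitToPush (e i)

omit [∀ i, IsOpenImmersion (e i)] in
theorem π_lift (i : ι) (W : X.Opens) (s : Γ(Coh.structureModule X, W)) :
    (biproduct.π (fun i => (Scheme.Modules.pushforward (e i)).obj (Coh.structureModule (N i))) i).app W
      ((lift N e).app W s) = (ClSub.unitToPush (e i)).app W s := by
  have h : lift N e ≫ biproduct.π _ i = ClSub.unitToPush (e i) := biproduct.lift_π _ _
  rw [← h]
  rfl

theorem isIso_lift (hd : ∀ i j, i ≠ j → Disjoint (Set.range (e i)) (Set.range (e j)))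
    (hcov : ∀ x, ∃ i, x ∈ Set.range (e i)) : IsIso (lift N e) := by
  refine Groth.Agent.CurvesC.PullIso.isIso_of_cover _ (fun i => (e i).opensRange) ?_ fun j => ?_
  · ext x
    constructor
    · intro _; trivial
    · intro _
      obtain ⟨i, hi⟩ := hcov x
      exact Opens.mem_iSup.2 ⟨i, hi⟩
  refine Groth.Agent.Fga.TwistGr.isIso_restrict_of_app _ _ fun V hV => ?_
  have hu : Function.Bijective ((ClSub.unitToPush (e j)).app V) := by
    have h0 : e j ''ᵁ (e j ⁻¹ᵁ V) = V := by
      rw [Scheme.Hom.image_preimage_eq_opensRange_inf]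
      exact inf_eq_right.2 hV
    have h1 : IsIso ((e j).app V) := by
      rw [← h0]
      infer_instance
    exact (ConcreteCategory.isIso_iff_bijective ((e j).app V)).1 h1
  have hs : ∀ i, i ≠ j → Subsingleton Γ((Scheme.Modules.pushforward (e i)).obj (Coh.structureModule (N i)), V) := by
    intro i hij
    have h1 : e i ⁻¹ᵁ V = ⊥ := by
      ext x
      constructor
      · intro hx
        exact (Set.disjoint_left.1 (hd i j hij) ⟨x, rfl⟩ (hV hx)).elim
      · intro hx
        exact hx.elim
    change Subsingleton Γ(N i, e i ⁻¹ᵁ V)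
    rw [h1]
    infer_instance
  constructor
  · intro a b hab
    apply hu.1
    rw [← π_lift N e j, ← π_lift N e j, hab]
  · intro t
    obtain ⟨s, hs'⟩ := hu.2 ((biproduct.π (fun i => (Scheme.Modules.pushforward (e i)).obj
      (Coh.structureModule (N i))) j).app V t)
    refine ⟨s, eq_of_components _ _ _ fun i => ?_⟩
    by_cases hij : i = j
    · subst hij
      rw [π_lift, hs']
    · have := hs i hij
      exact Subsingleton.elim _ _

omit [Finite ι] in
theorem isClosedImmersion (hd : ∀ i j, i ≠ j → Disjoint (Set.range (e i)) (Set.range (e j)))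
    (hcov : ∀ x, ∃ i, x ∈ Set.range (e i)) (j : ι) : IsClosedImmersion (e j) := by
  refine IsClosedImmersion.of_isPreimmersion _ ?_
  have h1 : Set.range (e j) = (⋃ i ∈ {i | i ≠ j}, Set.range (e i))ᶜ := by
    ext x
    simp only [Set.mem_compl_iff, Set.mem_iUnion, not_exists]
    constructor
    · intro hx i hi hxi
      exact Set.disjoint_left.1 (hd i j hi) hxi hx
    · intro hx
      obtain ⟨i, hi⟩ := hcov x
      by_cases hij : i = j
      · exact hij ▸ hi
      · exact (hx i hij hi).elim
  rw [h1]
  exact (isOpen_biUnion fun i _ => (e i).opensRange.isOpen).isClosed_compl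

theorem genus_eq_sum (k : Type u) [Field k] [X.Over (Spec (CommRingCat.of k))] [IsProper (X ↘ Spec (CommRingCat.of k))]
    {ι : Type} [Fintype ι] (N : ι → Scheme.{u}) (e : ∀ i, N i ⟶ X) [∀ i, IsOpenImmersion (e i)]
    (hd : ∀ i j, i ≠ j → Disjoint (Set.range (e i)) (Set.range (e j)))
    (hcov : ∀ x, ∃ i, x ∈ Set.range (e i)) :
    Curv2.genus k X = ∑ i, @Curv2.genus k _ (N i) ⟨e i ≫ (X ↘ Spec (CommRingCat.of k))⟩ := by
  have h1 := isIso_lift N e hd hcov
  have h2 : ∀ i, IsClosedImmersion (e i) := isClosedImmersion N e hd hcov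
  let _ : ∀ i, (N i).Over (Spec (CommRingCat.of k)) := fun i => ⟨e i ≫ (X ↘ Spec (CommRingCat.of k))⟩
  have h3 : ∀ i, IsProper ((N i) ↘ Spec (CommRingCat.of k)) := fun i =>
    inferInstanceAs (IsProper (e i ≫ (X ↘ Spec (CommRingCat.of k))))
  have h4 : ∀ i, Module.finrank k (Coh.HH X ((Scheme.Modules.pushforward (e i)).obj (Coh.structureModule (N i))) 1) =
      Curv2.genus k (N i) := fun i =>
    Groth.Agent.CurvesC.DegIso.finrank_push k (e i) rfl _ 1
  have h5 : ∀ i, Module.Finite k (Coh.HH X ((Scheme.Modules.pushforward (e i)).obj (Coh.structureModule (N i))) 1) := by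
    intro i
    have h6 : Module.Finite k (Coh.HH (N i) (Coh.structureModule (N i)) 1) :=
      Groth.Agent.S0002.result k (N i) _ (Groth.Agent.CurvesB.UnitCoh.isCoh_structureModule (N i)) 1
    exact Module.Finite.equiv (Groth.Agent.CurvesC.CurveNum.hhPushₗ k (e i) rfl _ 1)
  unfold Curv2.genus
  rw [Groth.Agent.CurvesC.DegIso.finrank_congr k (asIso (lift N e)) 1, (K700.HDim.biprodEquiv k _ 1).finrank_eq,
    Module.finrank_pi_fintype]
  exact Finset.sum_congr rfl fun i _ => h4 i

end General

section Conn

variable {J : Type u} (N : J → Scheme.{u})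

theorem disjoint_range {i j : J} (h : i ≠ j) : Disjoint (Set.range (Sigma.ι N i)) (Set.range (Sigma.ι N j)) := by
  have h5 := disjoint_opensRange_sigmaι N i j h
  rw [Set.disjoint_left]
  intro x hx hx'
  have h6 : x ∈ ((Sigma.ι N i).opensRange ⊓ (Sigma.ι N j).opensRange : (∐ N : Scheme.{u}).Opens) := ⟨hx, hx'⟩
  rw [h5.eq_bot] at h6
  exact h6

theorem card_connectedComponents (h : ∀ j, ConnectedSpace (N j)) :
    Nat.card (_root_.ConnectedComponents ↥(∐ N : Scheme.{u})) = Nat.card J := by
  have hne : ∀ j, Nonempty (N j) := fun j => (h j).toNonempty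
  let p : ∀ j, N j := fun j => (hne j).some
  refine (Nat.card_congr (Equiv.ofBijective
    (fun j : J => (ConnectedComponents.mk (Sigma.ι N j (p j)) : _root_.ConnectedComponents ↥(∐ N : Scheme.{u})))
    ⟨?_, ?_⟩)).symm
  · intro i j hij
    by_contra hne
    have h1 : Sigma.ι N j (p j) ∈ connectedComponent (Sigma.ι N i (p i)) := by
      have h2 := ConnectedComponents.coe_eq_coe'.1 hij.symm
      exact h2
    have h3 : IsClopen (Set.range (Sigma.ι N i)) := by
      refine ⟨?_, (Sigma.ι N i).opensRange.isOpen⟩
      have h6 : Set.range (Sigma.ι N i) = (⋃ l ∈ {l | l ≠ i}, Set.range (Sigma.ι N l))ᶜ := by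
        ext x
        simp only [Set.mem_compl_iff, Set.mem_iUnion, not_exists]
        constructor
        · intro hx l hl hxl
          exact Set.disjoint_left.1 (disjoint_range N hl) hxl hx
        · intro hx
          obtain ⟨l, y, rfl⟩ := (sigmaOpenCover N).exists_eq x
          by_cases hl : l = i
          · subst hl; exact ⟨y, rfl⟩
          · exact (hx l hl ⟨y, rfl⟩).elim
      rw [h6]
      exact (isOpen_biUnion fun l _ => (Sigma.ι N l).opensRange.isOpen).isClosed_compl
    have h4 := h3.connectedComponent_subset ⟨p i, rfl⟩ h1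
    exact Set.disjoint_left.1 (disjoint_range N hne) h4 ⟨p j, rfl⟩
  · intro c
    obtain ⟨x, rfl⟩ := ConnectedComponents.surjective_coe c
    obtain ⟨j, y, rfl⟩ := (sigmaOpenCover N).exists_eq x
    refine ⟨j, ?_⟩
    refine ConnectedComponents.coe_eq_coe'.2 ?_
    have h1 : _root_.IsPreconnected (Set.range (Sigma.ι N j)) := isPreconnected_range (Sigma.ι N j).continuous
    exact h1.subset_connectedComponent ⟨y, rfl⟩ ⟨p j, rfl⟩

end Conn

end K580.GenusSum
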