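import Groth.Agent.Surf.K379.Fib
import Groth.Agent.Surf.K464.FibCurve
import Groth.Agent.Surf.K458.FibZar
import Groth.Agent.Surf.K458.RelMin
import Groth.Agent.Surf.K627.Fin
import Groth.Agent.CurvSt.K901.SchPre
import Groth.Agent.CurvSt.K903.Facts
import Groth.Agent.CurvSt.K316.NormRed
import Groth.Agent.CurvSt.K316.GenusNode
import Groth.Agent.TFOne.K975.Euler
import Groth.Agent.StrictSS.K866.SepClosed
import Groth.Agent.Surf.K580.GenusSum
import Groth.Agent.S7912
import Groth.Agent.S2155
import Groth.Agent.S1530

/-!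
# The closed fibres of a semistable fibration of a surface

The fibre over a closed point as a proper connected nodal curve of genus `g`; its nodes; the genus formula.
-/

set_option autoImplicit false
universe u
open CategoryTheory CategoryTheory.Limits AlgebraicGeometry TopologicalSpace

namespace K580.FibY

open Groth.Agent K379.Fib K464.Base K464.Curves K464.PtCurve K464.FibCurve K627.SurfFin

variable (k : Type u) [Field k] [IsAlgClosed k] {X C : Scheme.{u}} [X.Over (Spec (CommRingCat.of k))]
    [C.Over (Spec (CommRingCat.of k))] (f : X ⟶ C) (g : ℕ)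

/-- the fibre over a closed point as a closed subscheme. -/
noncomputable abbrev YI {s : C} (hs : IsClosed ({s} : Set C)) : X.IdealSheafData := (pt hs).comap f

variable {f g}

theorem proper (h : IsFib k f g) {s : C} (hs : IsClosed ({s} : Set C)) :
    letI := overC k X (YI f hs)
    IsProper ((YI f hs).subscheme ↘ Spec (CommRingCat.of k)) := by
  have := h.pX
  exact isProper_sub k X _

theorem nodal (h : IsFib k f g) {s : C} (hs : IsClosed ({s} : Set C)) :
    letI := overC k X (YI f hs)
    Curv2.AtWorstNodal k (YI f hs).subscheme ∧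
      ∀ Z ∈ irreducibleComponents ((YI f hs).subscheme : Type u), topologicalKrullDim Z = 1 := by
  let _ := overC k X (YI f hs)
  have := h.pC
  have := proper k h hs
  obtain ⟨τ, hτ, H⟩ := exists_isPullback_fibre k f h.ovr hs
  have h1 : Curv2.IsNodalFamily ((YI f hs).subscheme ↘ Spec (CommRingCat.of k)) :=
    Groth.Agent.Sga7.H734.NodalBC.isNodalFamily_of_isPullback H h.nod
  exact (@K901.SchPre.nodal_field_iff k _ _ ((YI f hs).subscheme ↘ Spec (CommRingCat.of k)) h1.2.1).2 h1

theorem range_ι {s : C} (hs : IsClosed ({s} : Set C)) :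
    Set.range (YI f hs).subschemeι = f ⁻¹' {s} := by
  rw [Scheme.IdealSheafData.range_subschemeι]
  exact K458.FibZar.support_fibre f hs

theorem connected (h : IsFib k f g) {s : C} (hs : IsClosed ({s} : Set C)) : ConnectedSpace (YI f hs).subscheme := by
  have := h.pC
  have := isProper_f h
  have : IsLocallyNoetherian C := LocallyOfFiniteType.isLocallyNoetherian (C ↘ Spec (CommRingCat.of k))
  have h1 := K458.FibZar.isConnected_fibre f h.conn s
  rw [← range_ι hs] at h1
  have h2 := isConnected_iff_connectedSpace.1 h1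
  exact ((YI f hs).subschemeι.isEmbedding.toHomeomorph.symm.surjective).connectedSpace
    ((YI f hs).subschemeι.isEmbedding.toHomeomorph.symm.continuous)

theorem euler_eq (h : IsFib k f g) {s : C} (hs : IsClosed ({s} : Set C)) :
    letI := overC k X (YI f hs)
    Curv2.euler k (YI f hs).subscheme (Coh.structureModule _) = 1 - (g : ℤ) := by
  let _ := overC k X (YI f hs)
  have := h.pC
  have := h.pX
  have := h.iX
  have := h.iC
  have := h.nod.1
  obtain ⟨q₀, hq₀, -, hq⟩ := h.fib
  have h1 : ∀ {b : C} (hb : IsClosed ({b} : Set C)), @Curv2.euler k _ (YI f hb).subscheme (overC k X (YI f hb))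
      (Coh.structureModule (YI f hb).subscheme) = PerfAux.eulerChar f (Coh.structureModule X) (genericPoint C) := by
    intro b hb
    let _ := overC k X (YI f hb)
    rw [← euler_fibre k f h.ovr hb Fdesc.LocGen.isInvertible_structureModule (d := 2) h.dX.le]
    exact euler_congr k _ (@asIso _ _ _ _ _ (Grpsch.PicGrp.isIso_pullOne (YI f hb).subschemeι))
  rw [h1 hs, ← h1 hq₀, ← euler_quotMod_sub]
  rw [K458.RelMin.ker_fiberι f hq₀] at hq
  exact hq

theorem dim_eq_one {T : Scheme.{u}} [Nonempty T] (hd : ∀ Z ∈ irreducibleComponents (T : Type u), topologicalKrullDim Z = 1) :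
    topologicalKrullDim T = 1 := by
  refine le_antisymm (K975.Euler.dim_le_one hd) ?_
  obtain ⟨x⟩ := ‹Nonempty T›
  rw [← hd _ (irreducibleComponent_mem_irreducibleComponents x)]
  exact Topology.IsInducing.subtypeVal.topologicalKrullDim_le

theorem genus_eq (h : IsFib k f g) {s : C} (hs : IsClosed ({s} : Set C)) :
    letI := overC k X (YI f hs)
    Curv2.genus k (YI f hs).subscheme = g := by
  let _ := overC k X (YI f hs)
  have := proper k h hs
  obtain ⟨hn, hd⟩ := nodal k h hs
  have := connected k h hs
  have h0 := K903.Facts.finrank_h0 k (YI f hs).subscheme hn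
  have hN : IsNoetherian (YI f hs).subscheme := CurvesB.CurveRR.isNoetherian_of_proper k _
  have h1 := euler_eq k h hs
  rw [S1530.euler_eq k (dim_eq_one hd) (Coh.structureModule (YI f hs).subscheme), h0] at h1
  unfold Curv2.genus
  omega

theorem mem_smoothLocus_iff (h : IsFib k f g) [LocallyOfFinitePresentation f] {s : C} (hs : IsClosed ({s} : Set C))
    (y : (YI f hs).subscheme) :
    letI := overC k X (YI f hs)
    letI := proper k h hs
    y ∈ ((YI f hs).subscheme ↘ Spec (CommRingCat.of k)).smoothLocus ↔ (YI f hs).subschemeι y ∈ f.smoothLocus := by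
  let _ := overC k X (YI f hs)
  have := h.pC
  have := proper k h hs
  obtain ⟨τ, hτ, H⟩ := exists_isPullback_fibre k f h.ovr hs
  have := h.nod.1
  exact Smoothlim.SmoothLocusBC.mem_smoothLocus_iff_of_isPullback H y (Or.inl (Flat.stalkMap f _))

theorem isNode_iff (h : IsFib k f g) [LocallyOfFinitePresentation f] {s : C} (hs : IsClosed ({s} : Set C))
    (y : (YI f hs).subscheme) :
    letI := overC k X (YI f hs)
    Curv2.IsNode k (YI f hs).subscheme y ↔ (YI f hs).subschemeι y ∉ f.smoothLocus := by
  let _ := overC k X (YI f hs)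
  have := proper k h hs
  obtain ⟨hn, hd⟩ := nodal k h hs
  rw [← mem_smoothLocus_iff k h hs]
  constructor
  · intro h1 h2
    exact K866.SepClosed.not_nodeLike_of_mem_smoothLocus _ y h2
      ((CurvesB.Node.isNode_iff k (YI f hs).subscheme y).1 h1).2
  · intro h1
    have := K903.Facts.isReduced k (YI f hs).subscheme hn
    have h2 := K903.CINodal.isClosed_of_nonsmooth k (YI f hs).subscheme (K975.Euler.dim_le_one hd) y h1
    rcases hn y h2 with h3 | h3
    · exact (h1 ((K903.NonsmoothFin.mem_smoothLocus_iff_exists _ y).2 h3)).elim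
    · exact h3

theorem card_nodes (h : IsFib k f g) [LocallyOfFinitePresentation f] {s : C} (hs : IsClosed ({s} : Set C)) :
    letI := overC k X (YI f hs)
    Nat.card {y : (YI f hs).subscheme // Curv2.IsNode k (YI f hs).subscheme y} = (sg f s).ncard := by
  let _ := overC k X (YI f hs)
  have h1 : sg f s = (YI f hs).subschemeι '' {y | Curv2.IsNode k (YI f hs).subscheme y} := by
    ext x
    constructor
    · rintro ⟨hx1, hx2⟩
      obtain ⟨y, rfl⟩ : x ∈ Set.range (YI f hs).subschemeι := by
        rw [range_ι hs]
        exact hx1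
      exact ⟨y, (isNode_iff k h hs y).2 hx2, rfl⟩
    · rintro ⟨y, hy, rfl⟩
      refine ⟨?_, (isNode_iff k h hs y).1 hy⟩
      have h2 : (YI f hs).subschemeι y ∈ Set.range (YI f hs).subschemeι := ⟨y, rfl⟩
      rw [range_ι hs] at h2
      exact h2
  rw [h1, Set.ncard_image_of_injective _ (YI f hs).subschemeι.isEmbedding.injective, ← Nat.card_coe_set_eq]
  rfl

theorem preimage_mem {Y : Scheme.{u}} (i : Y ⟶ X) [IsClosedImmersion i] (hd : topologicalKrullDim Y ≤ 1)
    {Z : Set X} (hZc : IsClosed Z) (hZi : IsIrreducible Z) (hZ1 : topologicalKrullDim Z = 1) (hZ : Z ⊆ Set.range i) :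
    i ⁻¹' Z ∈ irreducibleComponents (Y : Type u) := by
  have he := i.isEmbedding
  have himg : i '' (i ⁻¹' Z) = Z := Set.image_preimage_eq_of_subset hZ
  have hirr : IsIrreducible (i ⁻¹' Z) := by
    rw [← himg] at hZi
    exact isIrreducible_of_image he.isInducing hZi
  have hcl : IsClosed (i ⁻¹' Z) := hZc.preimage i.continuous
  have hdim : topologicalKrullDim ↥(i ⁻¹' Z) = 1 := by
    rw [← dim_image he, himg, hZ1]
  obtain ⟨ζ, hζ⟩ := QuasiSober.sober hirr hcl
  obtain ⟨W, hW, hle⟩ := exists_mem_irreducibleComponents_subset_of_isIrreducible _ hirr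
  obtain ⟨η, hη⟩ := QuasiSober.sober hW.1 (isClosed_of_mem_irreducibleComponents _ hW)
  have hηζ : η ⤳ ζ := hη.specializes (hle hζ.mem)
  by_cases hne : η = ζ
  · have : i ⁻¹' Z = W := by
      rw [← hζ.def, ← hη.def, hne]
    rw [this]
    exact hW
  · exfalso
    have hζc := Ega4dA.Dim1Top.isClosed_of_specializes hd hηζ hne
    have h3 : i ⁻¹' Z = {ζ} := by rw [← hζ.def, hζc.closure_eq]
    rw [h3] at hdim
    have h4 : topologicalKrullDim ↥({ζ} : Set Y) ≤ 0 := topologicalKrullDim_zero_of_discreteTopology _
    rw [hdim] at h4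
    exact absurd h4 (by decide)

theorem card_vc (h : IsFib k f g) {s : C} (hs : IsClosed ({s} : Set C)) :
    Nat.card (irreducibleComponents ((YI f hs).subscheme : Type u)) = (vc f s).ncard := by
  let _ := overC k X (YI f hs)
  obtain ⟨hn, hd⟩ := nodal k h hs
  let i := (YI f hs).subschemeι
  have he : Topology.IsClosedEmbedding i := i.isClosedEmbedding
  let F : irreducibleComponents ((YI f hs).subscheme : Type u) → X.IdealSheafData := fun Z =>
    Scheme.IdealSheafData.vanishingIdeal ⟨i '' Z.1, he.isClosedMap _ (isClosed_of_mem_irreducibleComponents _ Z.2)⟩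
  have hF : Function.Injective F := by
    intro Z W hZW
    have h1 := congrArg (fun D : X.IdealSheafData => (D.support : Set X)) hZW
    simp only [F, Scheme.IdealSheafData.coe_support_vanishingIdeal] at h1
    exact Subtype.ext (Set.image_injective.2 he.injective h1)
  have hr : Set.range F = vc f s := by
    ext D
    constructor
    · rintro ⟨Z, rfl⟩
      refine ⟨?_, ?_, ?_⟩
      · exact isIntegral_vanishingIdeal _ (Z.2.1.image _ he.continuous.continuousOn)
      · rw [Scheme.IdealSheafData.coe_support_vanishingIdeal]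
        exact (dim_image he.isEmbedding _).trans (hd _ Z.2)
      · rw [Scheme.IdealSheafData.coe_support_vanishingIdeal]
        rintro _ ⟨z, -, rfl⟩
        have h2 : i z ∈ Set.range i := ⟨z, rfl⟩
        rw [range_ι hs] at h2
        exact h2
    · intro hD
      have hsub : (D.support : Set X) ⊆ Set.range i := by
        rw [range_ι hs]
        exact hD.2.2
      refine ⟨⟨i ⁻¹' (D.support : Set X), preimage_mem i (K975.Euler.dim_le_one hd) D.support.2
        (isIrreducible_support hD.1) hD.2.1 hsub⟩, ?_⟩
      refine Eq.trans ?_ (eq_vanishingIdeal hD.1).symm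
      change Scheme.IdealSheafData.vanishingIdeal _ = _
      congr 1
      apply Closeds.ext
      change i '' (i ⁻¹' (D.support : Set X)) = D.support
      rw [Set.image_preimage_eq_of_subset hsub]
  rw [← hr, ← Nat.card_coe_set_eq]
  exact Nat.card_congr (Equiv.ofInjective F hF)

end K580.FibY
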